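import Mathlib
import Cfsg.Agent.Lib.MinNormal
import Cfsg.Agent.H716.CopRow
import Cfsg.Agent.H531.FMove_m3
import Cfsg.Agent.Lib.Zsigmondy
import Cfsg.Agent.H531.RMPsu
import Cfsg.Agent.H71.RealMoveTw
import Cfsg.Agent.S1163
import Cfsg.Agent.ChevalleyStructure.ReeCount
import Cfsg.Agent.SmallSimple.PSLTwoPart
import Cfsg.Agent.ThreePrime.OrderThree
import Cfsg.Prelude.Def_Classification2
import Cfsg.Prelude.Def_LieTypeChar
import Cfsg.Agent.S0205
import Cfsg.Agent.S0254
import Cfsg.Agent.H254.CopAlt_mg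
import Cfsg.Agent.H164.TRowExc_m3
import Cfsg.Agent.H471.TRowPSU
import Cfsg.Agent.H680.TRowTw
import Cfsg.Agent.H60.TRowTwF4
import Cfsg.Agent.FastGrp
import Cfsg.Agent.Prune
set_option linter.all false
prune_inst 0x7f00000000000000000000000000000000000000000000000000000000000000000000000000000000000000000000000000000000000000000000000000000000000000000000000000000000000000003fffffffffffffffffffffffffffbeffbdffffffff
open scoped Cfsg.Agent.FastGrp

-- part: H527/OneClassE
section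
/-!
# S4164: the chief factor is abelian (helper527)

* `NRow p K` : for every automorphism `α` of order `p` (`p` a prime not dividing `|K|`) there are two elements of
  different orders which are not `K`-conjugate to fixed points of `α`;
* `lemE` : a non-abelian minimal normal `p'`-subgroup `V`, `Y = V C_Y(Q)`, `Q` an abelian `p`-subgroup not centralising
  `V`: then there are two elements of `V` of different orders without `V`-conjugates in `C_Y(Q)`, provided that the
  simple factors of `V` satisfy `NRow`.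
-/

set_option autoImplicit false
set_option linter.unusedSectionVars false

namespace Cfsg.Agent.H527.OC

open Subgroup

/-- Two elements of different orders not `K`-conjugate to fixed points of `α`. -/
def NRow (p : ℕ) (K : Type*) [Group K] : Prop :=
  ¬ p ∣ Nat.card K → ∀ α : MulAut K, orderOf α = p → ∃ a b : K,
    (∀ g : K, α (g * a * g⁻¹) ≠ g * a * g⁻¹) ∧ (∀ g : K, α (g * b * g⁻¹) ≠ g * b * g⁻¹) ∧ orderOf a ≠ orderOf b

variable {Y : Type*} [Group Y] [Finite Y] {p : ℕ} [Fact p.Prime]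

/-- A simple group all of whose nontrivial elements have the same order is abelian. -/
theorem comm_of_same_order {T : Type*} [Group T] [Finite T] [IsSimpleGroup T] (h : ∀ a b : T, a ≠ 1 → b ≠ 1 →
    orderOf a = orderOf b) : ∀ a b : T, a * b = b * a := by
  have hc1 : Nat.card T ≠ 1 := by
    intro h1
    have := (Nat.card_eq_one_iff_unique.1 h1).1
    exact not_subsingleton T this
  obtain ⟨s, hs, hsd⟩ := Nat.exists_prime_and_dvd hc1
  have : Fact s.Prime := ⟨hs⟩
  obtain ⟨x, hx⟩ := exists_prime_orderOf_dvd_card' (G := T) s hsd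
  have hx1 : x ≠ 1 := by
    rintro rfl
    rw [orderOf_one] at hx
    exact hs.one_lt.ne hx
  have hT : IsPGroup s T := by
    intro g
    by_cases hg : g = 1
    · exact ⟨0, by simp [hg]⟩
    · refine ⟨1, ?_⟩
      rw [pow_one, ← hx, ← h g x hg hx1, pow_orderOf_eq_one]
  have hnt := hT.center_nontrivial
  have hct : center T = ⊤ := by
    rcases (inferInstance : (center T).Normal).eq_bot_or_eq_top with h1 | h1
    · exact absurd h1 ((Subgroup.nontrivial_iff_ne_bot _).1 hnt)
    · exact h1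
  intro a b
  have : b ∈ center T := by rw [hct]; trivial
  exact Subgroup.mem_center_iff.1 this a

theorem lemE (V Q : Subgroup Y) [V.Normal] (hV : V ≠ ⊥)
    (hmin : ∀ M : Subgroup Y, M.Normal → M ≤ V → M = ⊥ ∨ M = V) (hna : ¬ ∀ a ∈ V, ∀ b ∈ V, a * b = b * a)
    (hQ : IsPGroup p Q) (hpV : ¬ p ∣ Nat.card V)
    (hsup : ∀ g : Y, ∃ n ∈ V, ∃ c ∈ centralizer (Q : Set Y), n * c = g) (hnc : ¬ V ≤ centralizer (Q : Set Y))
    (hord : ∀ a ∈ V, ∀ b ∈ V, (∀ n ∈ V, n * a * n⁻¹ ∉ centralizer (Q : Set Y)) →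
      (∀ n ∈ V, n * b * n⁻¹ ∉ centralizer (Q : Set Y)) → orderOf a = orderOf b)
    (hrow : ∀ T : Subgroup Y, IsSimpleGroup T → (¬ ∀ a b : T, a * b = b * a) → NRow p T) : False := by
  classical
  have hp : p.Prime := Fact.out
  obtain ⟨T₀, s, -, hsr, ⟨T, hTs⟩, -, -, hs⟩ := Lib.MinNormal.exists_set_decomposition V hV hmin
  obtain ⟨hTV, hT0, hVT, hTmin, hTsimple⟩ := hs T hTs
  have hsup' := Lib.MinNormal.sSup_conjugates hmin hTV hT0
  have hcV : ∀ g : Y, T.map (MulAut.conj g).toMonoidHom ≤ V := fun g => by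
    rw [← Lib.MinNormal.map_conj_normal g V]
    exact Subgroup.map_mono hTV
  have hcn : ∀ g : Y, V ≤ normalizer ((T.map (MulAut.conj g).toMonoidHom : Subgroup Y) : Set Y) :=
    Lib.MinNormal.le_normalizer_map_conj hVT
  -- conjugates of `T` are equal to `T` or meet `T` trivially
  have hTI : ∀ g : Y, T.map (MulAut.conj g).toMonoidHom = T ∨ T.map (MulAut.conj g).toMonoidHom ⊓ T = ⊥ := by
    intro g
    rcases hTmin _ (inf_le_right : T.map (MulAut.conj g).toMonoidHom ⊓ T ≤ T)
      (Lib.MinNormal.le_normalizer_inf (hcn g) hVT) with h | h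
    · exact Or.inr h
    · left
      have h1 : T ≤ T.map (MulAut.conj g).toMonoidHom := inf_eq_right.1 h
      refine (Subgroup.eq_of_le_of_card_ge h1 ?_).symm
      rw [Subgroup.card_map_of_injective (MulAut.conj g).injective]
  have hcomm : ∀ g : Y, T.map (MulAut.conj g).toMonoidHom ≠ T →
      T.map (MulAut.conj g).toMonoidHom ≤ centralizer (T : Set Y) := by
    intro g hg x hx
    rw [Subgroup.mem_centralizer_iff]
    intro t ht
    have h1 : Disjoint T (T.map (MulAut.conj g).toMonoidHom) := by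
      rw [disjoint_comm, disjoint_iff]
      exact (hTI g).resolve_left hg
    exact (Lib.MinNormal.commute_of_disjoint (hTV.trans (hcn g)) ((hcV g).trans hVT) h1 ht hx).eq
  -- `V = T C_V(T)`
  have hTC : ∀ v ∈ V, ∃ t ∈ T, ∃ k ∈ centralizer (T : Set Y), t * k = v := by
    have h1 : V ≤ T ⊔ centralizer (T : Set Y) := by
      rw [← hsup', sSup_le_iff]
      rintro _ ⟨g, rfl⟩
      by_cases hg : T.map (MulAut.conj g).toMonoidHom = T
      · exact hg.le.trans le_sup_left
      · exact (hcomm g hg).trans le_sup_right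
    have h2 : T ≤ normalizer ((centralizer (T : Set Y) : Subgroup Y) : Set Y) := by
      intro t ht
      rw [Subgroup.mem_normalizer_iff]
      have key : ∀ (t : Y), t ∈ T → ∀ h : Y, h ∈ centralizer (T : Set Y) → t * h * t⁻¹ ∈ centralizer (T : Set Y) := by
        intro t ht h hh
        have h3 : t * h * t⁻¹ = h := by
          rw [(Subgroup.mem_centralizer_iff.1 hh t ht), mul_inv_cancel_right]
        rw [h3]
        exact hh
      intro h
      refine ⟨key t ht h, fun hh => ?_⟩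
      have := key t⁻¹ (inv_mem ht) _ hh
      rwa [show t⁻¹ * (t * h * t⁻¹) * t⁻¹⁻¹ = h by group] at this
    intro v hv
    have h3 := h1 hv
    have h4 : v ∈ ((T ⊔ centralizer (T : Set Y) : Subgroup Y) : Set Y) := h3
    rw [Subgroup.coe_mul_of_left_le_normalizer_right _ _ h2, Set.mem_mul] at h4
    exact h4
  -- `T` is not abelian
  have hTna : ¬ ∀ a b : T, a * b = b * a := by
    intro hab
    apply hna
    have h1 : V ≤ centralizer (T : Set Y) := by
      rw [← hsup', sSup_le_iff]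
      rintro _ ⟨g, rfl⟩
      by_cases hg : T.map (MulAut.conj g).toMonoidHom = T
      · show T.map (MulAut.conj g).toMonoidHom ≤ _
        rw [hg]
        intro t ht
        rw [Subgroup.mem_centralizer_iff]
        intro t' ht'
        exact congrArg Subtype.val (hab ⟨t', ht'⟩ ⟨t, ht⟩)
      · exact hcomm g hg
    have h2 : V ⊓ centralizer (V : Set Y) = V := by
      have hn : (centralizer (V : Set Y)).Normal := Subgroup.normal_centralizer
      rcases hmin (V ⊓ centralizer (V : Set Y)) inferInstance inf_le_left with h | h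
      · exfalso
        apply hT0
        rw [eq_bot_iff, ← h]
        intro t ht
        refine Subgroup.mem_inf.2 ⟨hTV ht, ?_⟩
        rw [Subgroup.mem_centralizer_iff]
        intro v hv
        exact (Subgroup.mem_centralizer_iff.1 (h1 hv) t ht).symm
      · exact h
    intro a ha b hb
    have hb' := inf_eq_left.1 h2 hb
    exact Subgroup.mem_centralizer_iff.1 hb' a ha
  by_cases hcase : ∃ y ∈ Q, T.map (MulAut.conj y).toMonoidHom ≠ T
  · -- all nontrivial elements of `T` are bad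
    obtain ⟨y, hy, hyT⟩ := hcase
    have hbad : ∀ t ∈ T, t ≠ 1 → ∀ n ∈ V, n * t * n⁻¹ ∉ centralizer (Q : Set Y) := by
      intro t ht ht1 n hn hc
      have h1 : n * t * n⁻¹ ∈ T := (Subgroup.mem_normalizer_iff.1 (hVT hn) t).1 ht
      have h2 : y * (n * t * n⁻¹) = (n * t * n⁻¹) * y := Subgroup.mem_centralizer_iff.1 hc y hy
      have h3 : n * t * n⁻¹ ∈ T.map (MulAut.conj y).toMonoidHom := by
        refine ⟨n * t * n⁻¹, h1, ?_⟩
        show y * (n * t * n⁻¹) * y⁻¹ = n * t * n⁻¹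
        rw [h2, mul_inv_cancel_right]
      have h4 : n * t * n⁻¹ ∈ T.map (MulAut.conj y).toMonoidHom ⊓ T := Subgroup.mem_inf.2 ⟨h3, h1⟩
      rw [(hTI y).resolve_left hyT, Subgroup.mem_bot] at h4
      apply ht1
      calc t = n⁻¹ * (n * t * n⁻¹) * n := by group
        _ = 1 := by rw [h4]; group
    apply hTna
    apply comm_of_same_order
    intro a b ha hb
    rw [← Subgroup.orderOf_coe a, ← Subgroup.orderOf_coe b]
    exact hord a (hTV a.2) b (hTV b.2) (hbad a a.2 (fun h => ha (Subtype.ext h)))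
      (hbad b b.2 (fun h => hb (Subtype.ext h)))
  · push Not at hcase
    -- `Q` normalises `T`
    have hQT : Q ≤ normalizer (T : Set Y) := by
      intro y hy
      have h1 : ∀ z ∈ Q, ∀ t ∈ T, z * t * z⁻¹ ∈ T := by
        intro z hz t ht
        have : z * t * z⁻¹ ∈ T.map (MulAut.conj z).toMonoidHom := ⟨t, ht, rfl⟩
        rwa [hcase z hz] at this
      rw [Subgroup.mem_normalizer_iff]
      intro t
      refine ⟨h1 y hy t, fun h => ?_⟩
      have := h1 y⁻¹ (inv_mem hy) _ h
      rwa [show y⁻¹ * (y * t * y⁻¹) * y⁻¹⁻¹ = t by group] at this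
    let φ : Q →* MulAut T := (Subgroup.normalizerMonoidHom T).comp (Subgroup.inclusion hQT)
    have hφ : ∀ (y : Q) (t : T), ((φ y t : T) : Y) = y * t * (y : Y)⁻¹ := fun y t => rfl
    -- `Q` does not centralise `T`
    obtain ⟨y, hy⟩ : ∃ y : Q, φ y ≠ 1 := by
      by_contra hcon
      push Not at hcon
      apply hnc
      rw [← hsup', sSup_le_iff]
      rintro _ ⟨g, rfl⟩
      obtain ⟨n, hn, c, hc, rfl⟩ := hsup g
      -- `T ^ (n c) = T ^ c`
      have h1 : T.map (MulAut.conj (n * c)).toMonoidHom = T.map (MulAut.conj c).toMonoidHom := by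
        rw [← Lib.MinNormal.map_conj_map_conj]
        exact Subgroup.mem_normalizer_iff_map_conj_eq.1 (hcn c hn)
      show T.map (MulAut.conj (n * c)).toMonoidHom ≤ _
      rw [h1]
      rintro _ ⟨t, ht, rfl⟩
      rw [Subgroup.mem_centralizer_iff]
      intro z hz
      show z * (c * t * c⁻¹) = c * t * c⁻¹ * z
      have h2 : z * c = c * z := Subgroup.mem_centralizer_iff.1 hc z hz
      have h3 : z * t = t * z := by
        have h4 := hφ ⟨z, hz⟩ ⟨t, ht⟩
        rw [hcon ⟨z, hz⟩] at h4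
        change t = z * t * z⁻¹ at h4
        rw [eq_mul_inv_iff_mul_eq] at h4
        exact h4.symm
      have h5 : z * c⁻¹ = c⁻¹ * z := by
        rw [mul_inv_eq_iff_eq_mul, mul_assoc, h2, inv_mul_cancel_left]
      calc z * (c * t * c⁻¹) = (z * c) * t * c⁻¹ := by group
        _ = c * (z * t) * c⁻¹ := by rw [h2]; group
        _ = c * t * (z * c⁻¹) := by rw [h3]; group
        _ = c * t * c⁻¹ * z := by rw [h5]; group
    -- an element of order `p`
    obtain ⟨y', hy'⟩ : ∃ y' : Q, orderOf (φ y') = p := by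
      obtain ⟨k, hk⟩ := hQ y
      have h1 : orderOf (φ y) ∣ p ^ k := by
        apply orderOf_dvd_of_pow_eq_one
        rw [← map_pow, hk, map_one]
      obtain ⟨j, -, hj⟩ := (Nat.dvd_prime_pow hp).1 h1
      have hj0 : j ≠ 0 := by
        rintro rfl
        rw [pow_zero, orderOf_eq_one_iff] at hj
        exact hy hj
      refine ⟨y ^ p ^ (j - 1), ?_⟩
      rw [map_pow, orderOf_pow' _ (pow_pos hp.pos _).ne', hj]
      have h2 : p ^ j = p ^ (j - 1) * p := by
        rw [← pow_succ, Nat.sub_add_cancel (Nat.pos_of_ne_zero hj0)]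
      rw [h2, Nat.gcd_eq_right (dvd_mul_right _ _), Nat.mul_div_cancel_left _ (pow_pos hp.pos _)]
    have hpT : ¬ p ∣ Nat.card T := fun h => hpV (h.trans (Subgroup.card_dvd_of_le hTV))
    obtain ⟨a, b, ha, hb, hab⟩ := hrow T hTsimple hTna hpT (φ y') hy'
    have hbad : ∀ a : T, (∀ g : T, φ y' (g * a * g⁻¹) ≠ g * a * g⁻¹) →
        ∀ n ∈ V, n * (a : Y) * n⁻¹ ∉ centralizer (Q : Set Y) := by
      intro a ha n hn hc
      obtain ⟨t, ht, k, hk, rfl⟩ := hTC n hn
      apply ha ⟨t, ht⟩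
      apply Subtype.ext
      rw [hφ]
      show (y' : Y) * (t * a * t⁻¹) * (y' : Y)⁻¹ = t * a * t⁻¹
      have h1 : k * a = a * k := (Subgroup.mem_centralizer_iff.1 hk a a.2).symm
      have h2 : t * k * a * (t * k)⁻¹ = t * a * t⁻¹ := by
        calc t * k * a * (t * k)⁻¹ = t * (k * a) * k⁻¹ * t⁻¹ := by group
          _ = t * a * t⁻¹ := by rw [h1]; group
      rw [h2] at hc
      rw [Subgroup.mem_centralizer_iff.1 hc y' y'.2, mul_inv_cancel_right]
    apply hab
    rw [← Subgroup.orderOf_coe a, ← Subgroup.orderOf_coe b]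
    exact hord a (hTV a.2) b (hTV b.2) (hbad a ha) (hbad b hb)

end Cfsg.Agent.H527.OC
end

-- part: H527/NRow
section
/-!
# Two elements of different orders not conjugate to fixed points (helper527)

Tools for `NRow p K` (`Cfsg.Agent.H527.OC.NRow`): for every automorphism `α` of prime order `p ∤ |K|` there are two
elements of different orders which are not `K`-conjugate to fixed points of `α`.

* `bad_of_zpowers` : `α e ∈ ⟨e⟩`, `α e ≠ e`;
* `NRow.of_tRow` : from helper716's `TRow`;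
* `NRow.of_copTriv` : groups without coprime automorphisms;
* `NRow.of_field` : rank one groups: a torus element and an element of Zsigmondy order.
-/

set_option autoImplicit false
set_option linter.unusedSectionVars false

namespace Cfsg.Agent.H527.OC

open Subgroup Cfsg.Agent.H531 Cfsg.Agent.H254

universe u v

/-- no conjugate of `x` is fixed by `α` -/
def Bad {K : Type*} [Group K] (α : MulAut K) (x : K) : Prop := ∀ g : K, α (g * x * g⁻¹) ≠ g * x * g⁻¹

theorem bad_of_zpowers {K : Type*} [Group K] [Finite K] {p : ℕ} (hp : p.Prime) (hpK : ¬ p ∣ Nat.card K) {α : MulAut K}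
    (hα : α ^ p = 1) {e : K} (h1 : α e ∈ zpowers e) (h2 : α e ≠ e) : Bad α e := by
  intro g hg
  set w := (α g)⁻¹ * g with hw
  have h3 : α e = w * e * w⁻¹ := by
    rw [map_mul, map_mul, map_inv] at hg
    calc α e = (α g)⁻¹ * (α g * α e * (α g)⁻¹) * α g := by group
      _ = (α g)⁻¹ * (g * e * g⁻¹) * α g := by rw [hg]
      _ = w * e * w⁻¹ := by rw [hw]; group
  have h4 : ∀ n : ℕ, (α ^ n) e ∈ zpowers e ∧ (α ^ n) e = w ^ n * e * (w ^ n)⁻¹ := by
    intro n
    induction n with
    | zero => exact ⟨by rw [pow_zero]; exact mem_zpowers e, by simp⟩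
    | succ n ih =>
      obtain ⟨ih1, ih2⟩ := ih
      obtain ⟨k, hk⟩ := mem_zpowers_iff.1 ih1
      have h5 : (α ^ (n + 1)) e = (α e) ^ k := by
        rw [pow_succ', MulAut.mul_apply, ← hk, map_zpow]
      refine ⟨by rw [h5]; exact zpow_mem h1 k, ?_⟩
      rw [h5, h3, conj_zpow, hk, ih2, pow_succ']
      group
  have h5 : (α ^ orderOf w) e = e := by
    rw [(h4 _).2, pow_orderOf_eq_one]
    group
  have h6 : p.Coprime (orderOf w) :=
    (Nat.Prime.coprime_iff_not_dvd hp).2 (fun h => hpK (h.trans (_root_.orderOf_dvd_natCard w)))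
  apply h2
  -- `α` is a power of `α ^ orderOf w`
  have h7 : (orderOf α).Coprime (orderOf w) := h6.coprime_dvd_left (orderOf_dvd_of_pow_eq_one hα)
  obtain ⟨m, hm⟩ := exists_pow_eq_self_of_coprime h7.symm
  rw [← hm]
  have h8 : ∀ j : ℕ, ((α ^ orderOf w) ^ j) e = e := by
    intro j
    induction j with
    | zero => simp
    | succ j ih => rw [pow_succ', MulAut.mul_apply, ih, h5]
  exact h8 m

theorem Bad.of_mem_zpowers {K : Type*} [Group K] {α : MulAut K} {x e : K} (he : e ∈ zpowers x) (h : Bad α e) :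
    Bad α x := by
  intro g hg
  obtain ⟨k, rfl⟩ := mem_zpowers_iff.1 he
  apply h g
  rw [← conj_zpow, map_zpow, hg]

theorem Bad.map {K : Type*} [Group K] {α g : MulAut K} {x : K} (h : Bad (g * α * g⁻¹) x) : Bad α (g⁻¹ x) := by
  intro k hk
  apply h (g k)
  have h1 : g⁻¹ (g k * x * (g k)⁻¹) = k * g⁻¹ x * k⁻¹ := by
    rw [map_mul, map_mul, map_inv, MulAut.inv_apply_self]
  show g (α (g⁻¹ (g k * x * (g k)⁻¹))) = _
  rw [h1, hk, ← h1, MulAut.apply_inv_self]

theorem NRow.of_bad {K : Type*} [Group K] {p : ℕ} (h : ¬ p ∣ Nat.card K → ∀ α : MulAut K, orderOf α = p →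
    ∃ a b : K, Bad α a ∧ Bad α b ∧ orderOf a ≠ orderOf b) : NRow p K :=
  fun hp α hα => h hp α hα

theorem NRow.of_tRow {K : Type*} [Group K] [Finite K] {r p : ℕ} (hr : r.Prime) (hp : p.Prime)
    (h : H716.CopRow.TRow r K) : NRow p K := by
  refine NRow.of_bad fun hpK α hα => ?_
  obtain ⟨e, u, hc, hru, hcop, h1, h2⟩ := h p hp hpK α hα
  have hb : Bad α e := bad_of_zpowers hp hpK (hα ▸ pow_orderOf_eq_one α) h1 h2
  have ho : orderOf (e * u) = orderOf e * orderOf u := hc.orderOf_mul_eq_mul_orderOf_of_coprime hcop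
  refine ⟨e, e * u, hb, ?_, ?_⟩
  · -- `e` is a power of `e u`
    refine Bad.of_mem_zpowers ?_ hb
    obtain ⟨m, hm⟩ := exists_pow_eq_self_of_coprime (x := e) (n := orderOf u) hcop.symm
    refine mem_zpowers_iff.2 ⟨(orderOf u * m : ℕ), ?_⟩
    rw [zpow_natCast, pow_mul, hc.mul_pow, pow_orderOf_eq_one u, mul_one, hm]
  · rw [ho]
    intro h3
    have h4 : orderOf u = 1 := by
      have h5 : orderOf e * 1 = orderOf e * orderOf u := by rw [mul_one]; exact h3
      exact (Nat.eq_of_mul_eq_mul_left (orderOf_pos e) h5).symm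
    rw [h4] at hru
    exact hr.one_lt.ne' (Nat.dvd_one.1 hru)

theorem NRow.congr {K : Type u} [Group K] {L : Type v} [Group L] {p : ℕ} (f : K ≃* L) (h : NRow p K) : NRow p L := by
  intro hp α hα
  obtain ⟨a, b, h1, h2, h3⟩ := h (by rw [Nat.card_congr f.toEquiv]; exact hp) ((MulAut.congr f).symm α)
    (by rw [MulEquiv.orderOf_eq (MulAut.congr f).symm α]; exact hα)
  have key : ∀ a : K, (∀ g : K, (MulAut.congr f).symm α (g * a * g⁻¹) ≠ g * a * g⁻¹) →
      ∀ g : L, α (g * f a * g⁻¹) ≠ g * f a * g⁻¹ := by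
    intro a ha g hg
    apply ha (f.symm g)
    show f.symm (α (f (f.symm g * a * (f.symm g)⁻¹))) = _
    rw [map_mul f, map_mul f, map_inv f, MulEquiv.apply_symm_apply, hg, map_mul, map_mul, map_inv,
      MulEquiv.symm_apply_apply]
  refine ⟨f a, f b, key a h1, key b h2, ?_⟩
  rw [MulEquiv.orderOf_eq, MulEquiv.orderOf_eq]
  exact h3

theorem NRow.of_copTriv {K : Type*} [Group K] {p : ℕ} (hp : p.Prime) (h : CopTriv K) : NRow p K := by
  intro hpK α hα
  exfalso
  have h1 := h (zpowers α) (by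
    rw [Nat.card_zpowers, hα]
    exact (Nat.Prime.coprime_iff_not_dvd hp).2 hpK)
  have h2 : α = 1 := by
    have := mem_zpowers α
    rw [h1, mem_bot] at this
    exact this
  rw [h2, orderOf_one] at hα
  exact hp.one_lt.ne hα

/-! ### Rank one groups -/

/-- Matrices with entries fixed by an automorphism of the field. -/
theorem dvd_of_fixed {F : Type*} [Field F] [Finite F] {N : ℕ} (τ : F ≃+* F) (hN : orderOf τ = N) {n : ℕ}
    (M : Matrix.GeneralLinearGroup (Fin n) F) (hM : ∀ i j, τ ((M : Matrix (Fin n) (Fin n) F) i j) = M i j) :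
    ∃ q₀ : ℕ, q₀ ^ N = Nat.card F ∧ ∀ l : ℕ, l.Prime → l ∣ orderOf M → ¬ l ∣ q₀ → ∃ i, 1 ≤ i ∧ i ≤ n ∧ l ∣ q₀ ^ i - 1 := by
  classical
  have : Fintype F := Fintype.ofFinite F
  let A := zpowers τ
  let F₀ := FixedPoints.subfield A F
  have hfix : ∀ x : F, τ x = x → x ∈ F₀ := by
    intro x hx
    rintro ⟨σ, hσ⟩
    obtain ⟨k, rfl⟩ := mem_zpowers_iff.1 hσ
    show (τ ^ k) x = x
    have h1 : τ ∈ MulAction.stabilizer (F ≃+* F) x := hx
    exact zpow_mem h1 k
  have hFf : FaithfulSMul A F := by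
    refine ⟨fun {a b} h => Subtype.ext (RingEquiv.ext fun x => h x)⟩
  have hfin : Finite (F ≃+* F) := Finite.of_injective (fun σ : F ≃+* F => (σ : F → F)) DFunLike.coe_injective
  have : Fintype A := Fintype.ofFinite A
  have hrank : Module.finrank F₀ F = N := by
    rw [FixedPoints.finrank_eq_card A F, ← Nat.card_eq_fintype_card, Nat.card_zpowers, hN]
  have hcard : Nat.card F₀ ^ N = Nat.card F := by
    rw [← hrank]
    exact (Module.natCard_eq_pow_finrank (K := F₀) (V := F)).symm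
  refine ⟨Nat.card F₀, hcard, ?_⟩
  intro l hl hlM hl0
  -- `M` over `F₀`
  let M₀ : Matrix (Fin n) (Fin n) F₀ := Matrix.of fun i j => ⟨M i j, hfix _ (hM i j)⟩
  have hM₀ : M₀.map (algebraMap F₀ F) = M := by
    ext i j
    rfl
  have hdet : M₀.det ≠ 0 := by
    intro h
    have h1 : (M₀.map (algebraMap F₀ F)).det = 0 := by
      rw [← RingHom.mapMatrix_apply, ← RingHom.map_det, h, map_zero]
    rw [hM₀] at h1
    exact (Matrix.GeneralLinearGroup.det M).ne_zero h1
  let g : Matrix.GeneralLinearGroup (Fin n) F₀ := Matrix.GeneralLinearGroup.mkOfDetNeZero M₀ hdet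
  have hg : Matrix.GeneralLinearGroup.map (algebraMap F₀ F) g = M := by
    apply Units.ext
    exact hM₀
  have hinj : Function.Injective (Matrix.GeneralLinearGroup.map (n := Fin n) (algebraMap F₀ F)) := by
    intro a b hab
    apply Units.ext
    ext i j
    have h1 := congrArg (fun z : Matrix.GeneralLinearGroup (Fin n) F => (z : Matrix (Fin n) (Fin n) F) i j) hab
    exact congrArg Subtype.val (Subtype.ext h1 : (a : Matrix (Fin n) (Fin n) F₀) i j = (b : Matrix (Fin n) (Fin n) F₀) i j)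
  have ho : orderOf g = orderOf M := by
    rw [← hg]
    exact (orderOf_injective _ hinj g).symm
  have hF₀ : Finite F₀ := inferInstance
  have : Fintype F₀ := Fintype.ofFinite F₀
  have hd : l ∣ Nat.card (Matrix.GeneralLinearGroup (Fin n) F₀) := by
    rw [← ho] at hlM
    exact hlM.trans (_root_.orderOf_dvd_natCard g)
  rw [Matrix.card_GL_field] at hd
  obtain ⟨i, -, hi⟩ := (hl.prime.dvd_finsetProd_iff _).1 hd
  have h1 : Fintype.card F₀ ^ n - Fintype.card F₀ ^ (i : ℕ) =
      Fintype.card F₀ ^ (i : ℕ) * (Fintype.card F₀ ^ (n - i) - 1) := by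
    rw [Nat.mul_sub, mul_one, ← pow_add]
    congr 2
    have := i.2
    omega
  rw [h1] at hi
  rw [Nat.card_eq_fintype_card] at hl0 ⊢
  rcases hl.dvd_mul.1 hi with h2 | h2
  · exact absurd (hl.dvd_of_dvd_pow h2) hl0
  · exact ⟨n - i, by have := i.2; omega, by omega, h2⟩

/-- **Criterion for rank one groups.** -/
theorem NRow.of_field {K : Type u} [Group K] [Finite K] {F : Type v} [Field F] [Finite F] {p : ℕ} (hp : p.Prime)
    (h2 : 2 ∣ Nat.card K) (φ : (F ≃+* F) →* MulAut K) (hco : FieldConj φ) (h : Fˣ →* K)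
    (hφ : ∀ (τ : F ≃+* F) (u : Fˣ), φ τ (h u) = h (Units.map (τ : F →* F) u))
    (hker : ∀ u : Fˣ, h u = 1 → u ^ 2 = 1) {r a m n : ℕ} (hr : r.Prime) (hF : Nat.card F = r ^ a) (hm : 2 ≤ m)
    (hma : p ∣ a → ¬ p ∣ Nat.card K → 7 ≤ m * a ∧ n < m * p)
    (fix : ∀ (τ : F ≃+* F) (g : K) (l : ℕ), l.Prime → l ≠ 2 → orderOf g = l → φ τ g = g →
      ∃ M : Matrix.GeneralLinearGroup (Fin n) F, l ∣ orderOf M ∧ ∀ i j, τ ((M : Matrix (Fin n) (Fin n) F) i j) = M i j)
    (hcard : ∀ l : ℕ, l.Prime → (∀ k, l ∣ r ^ k - 1 ↔ m * a ∣ k) → l ∣ Nat.card K) : NRow p K := by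
  refine NRow.of_bad fun hpK α hα => ?_
  obtain ⟨g, τ, hg⟩ := hco α (by rw [hα]; exact (Nat.Prime.coprime_iff_not_dvd hp).2 hpK)
  have hp2 : p ≠ 2 := fun h => hpK (h ▸ h2)
  have hφo : orderOf (φ τ) = p := by
    rw [← hg, ← hα]
    exact MulEquiv.orderOf_eq (MulAut.conj g) α
  have hfin : Finite (F ≃+* F) := Finite.of_injective (fun σ : F ≃+* F => (σ : F → F)) DFunLike.coe_injective
  set N := orderOf τ with hN
  have hN0 : 0 < N := orderOf_pos τ
  have hpN : p ∣ N := by
    rw [← hφo]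
    exact orderOf_map_dvd φ τ
  have ha0 : a ≠ 0 := by
    rintro rfl
    rw [pow_zero] at hF
    have := (Nat.card_eq_one_iff_unique.1 hF).1
    exact not_subsingleton F this
  -- orders of fixed matrices
  have hNa : N ∣ a ∧ ∀ (M : Matrix.GeneralLinearGroup (Fin n) F), (∀ i j, τ ((M : Matrix (Fin n) (Fin n) F) i j) = M i j) →
      ∀ l : ℕ, l.Prime → l ∣ orderOf M → ¬ l ∣ r → ∃ b i, b * N = a ∧ 1 ≤ i ∧ i ≤ n ∧ l ∣ r ^ (b * i) - 1 := by
    have key : ∀ q₀ : ℕ, q₀ ^ N = Nat.card F → ∃ b, q₀ = r ^ b ∧ b * N = a := by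
      intro q₀ hq₀
      rw [hF] at hq₀
      obtain ⟨b, -, rfl⟩ := (Nat.dvd_prime_pow hr).1 (hq₀ ▸ dvd_pow_self q₀ hN0.ne')
      refine ⟨b, rfl, ?_⟩
      rw [← pow_mul] at hq₀
      exact Nat.pow_right_injective hr.two_le hq₀
    constructor
    · obtain ⟨q₀, hq₀, -⟩ := dvd_of_fixed τ hN.symm (1 : Matrix.GeneralLinearGroup (Fin n) F) (fun i j => by
        show τ ((1 : Matrix (Fin n) (Fin n) F) i j) = (1 : Matrix (Fin n) (Fin n) F) i j
        rw [Matrix.one_apply]
        split_ifs <;> simp)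
      obtain ⟨b, -, hb⟩ := key q₀ hq₀
      exact ⟨b, by rw [← hb]; ring⟩
    · intro M hM l hl hlM hlr
      obtain ⟨q₀, hq₀, hq⟩ := dvd_of_fixed τ hN.symm M hM
      obtain ⟨b, rfl, hb⟩ := key q₀ hq₀
      obtain ⟨i, h1, h2, h3⟩ := hq l hl hlM (fun h => hlr (hl.dvd_of_dvd_pow h))
      exact ⟨b, i, hb, h1, h2, by rwa [pow_mul]⟩
  obtain ⟨hNa, hfixM⟩ := hNa
  obtain ⟨hma7, hnmp⟩ := hma (hpN.trans hNa) hpK
  -- the Zsigmondy prime
  obtain ⟨l, hl, hdiv, hl1, hlr⟩ := Lib.Zsigmondy.exists_primitive (a := r) (n := m * a) hr.two_le (by omega)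
    (fun h => by omega) (fun h => by omega)
  have hl2 : l ≠ 2 := by
    rintro rfl
    have := Nat.le_of_dvd (by norm_num) hl1
    omega
  have : Fact l.Prime := ⟨hl⟩
  obtain ⟨y, hy⟩ := exists_prime_orderOf_dvd_card' (G := K) l (hcard l hl hdiv)
  have hbady : Bad (φ τ) y := by
    intro k hk
    obtain ⟨M, hM1, hM2⟩ := fix τ (k * y * k⁻¹) l hl hl2 (by
      rw [← hy]
      exact MulEquiv.orderOf_eq (MulAut.conj k) y) hk
    obtain ⟨b, i, hb, hi1, hi2, hi3⟩ := hfixM M hM2 l hl hM1 hlr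
    rw [hdiv] at hi3
    have hb0 : 0 < b := by
      rcases Nat.eq_zero_or_pos b with h | h
      · rw [h, zero_mul] at hb
        exact absurd hb.symm ha0
      · exact h
    have h3 := Nat.le_of_dvd (Nat.mul_pos hb0 hi1) hi3
    have h4 : b * i ≤ b * n := Nat.mul_le_mul_left b hi2
    have h5 : m * p ≤ m * N := Nat.mul_le_mul_left m (Nat.le_of_dvd hN0 hpN)
    have h6 : b * (m * N) ≤ b * n := by
      calc b * (m * N) = m * (b * N) := by ring
        _ = m * a := by rw [hb]
        _ ≤ b * n := h3.trans h4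
    have h7 := Nat.le_of_mul_le_mul_left h6 hb0
    omega
  -- the torus element
  obtain ⟨u, hu⟩ := IsCyclic.exists_generator (α := Fˣ)
  obtain ⟨k, hk⟩ := MonoidHom.map_cyclic (Units.map (τ : F →* F))
  have h3 : φ τ (h u) = h u ^ k := by rw [hφ, hk u, map_zpow]
  have h4 : φ τ (h u) ≠ h u := by
    intro h4
    have h5 : (u ^ (k - 1)) ^ 2 = 1 := by
      apply hker
      rw [map_zpow, zpow_sub_one, ← h3, h4, mul_inv_cancel]
    have h7 : τ (u : F) = (u : F) * ((u ^ (k - 1) : Fˣ) : F) := by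
      have h8 := congrArg Units.val (hk u)
      have h9 : u ^ k = u * u ^ (k - 1) := by
        rw [zpow_sub_one, mul_comm, inv_mul_cancel_right]
      rw [h9] at h8
      exact h8
    have h10 : ((u ^ (k - 1) : Fˣ) : F) ^ 2 = 1 := by
      have := congrArg (fun z : Fˣ => (z : F)) h5
      simpa only [_root_.Units.val_zpow_eq_zpow_val, _root_.sq_eq_one_iff, _root_.Units.val_pow_eq_pow_val, _root_.Units.val_one] using this
    have h11 : τ (τ (u : F)) = (u : F) := by
      have h12 : τ ((u ^ (k - 1) : Fˣ) : F) = ((u ^ (k - 1) : Fˣ) : F) := by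
        rcases (sq_eq_one_iff.1 h10) with h | h
        · rw [h, map_one]
        · rw [h, map_neg, map_one]
      rw [h7, map_mul, h12, h7, mul_assoc, ← sq, h10, mul_one]
    have h12 : τ ^ 2 = 1 := by
      apply RingEquiv.ext
      intro x
      show (τ ^ 2) x = x
      rcases eq_or_ne x 0 with hx | hx
      · rw [hx, map_zero]
      · obtain ⟨j, hj⟩ := mem_zpowers_iff.1 (hu (Units.mk0 x hx))
        have h13 : Units.map ((τ ^ 2 : F ≃+* F) : F →* F) u = u := Units.ext h11
        have h14 : Units.map ((τ ^ 2 : F ≃+* F) : F →* F) (u ^ j) = u ^ j := by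
          rw [map_zpow, h13]
        rw [hj] at h14
        exact congrArg Units.val h14
    have h13 : (φ τ) ^ 2 = 1 := by rw [← map_pow, h12, map_one]
    have h14 := orderOf_dvd_of_pow_eq_one h13
    rw [hφo] at h14
    exact hp2 ((Nat.prime_dvd_prime_iff_eq hp Nat.prime_two).1 h14)
  have hbade : Bad (φ τ) (h u) :=
    bad_of_zpowers hp hpK (hφo ▸ pow_orderOf_eq_one (φ τ)) (by rw [h3]; exact zpow_mem (mem_zpowers _) k) h4
  have hne : orderOf (h u) ≠ orderOf y := by
    rw [hy]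
    intro he
    have h5 : l ∣ r ^ a - 1 := by
      rw [← he]
      have h6 : orderOf (h u) ∣ orderOf u := orderOf_map_dvd h u
      have h7 : orderOf u ∣ Nat.card Fˣ := _root_.orderOf_dvd_natCard u
      rw [Nat.card_units, hF] at h7
      exact h6.trans h7
    rw [hdiv] at h5
    have h6 := Nat.le_of_dvd (Nat.pos_of_ne_zero ha0) h5
    have h7 : 2 * a ≤ m * a := Nat.mul_le_mul_right a hm
    omega
  -- transport
  refine ⟨g⁻¹ (h u), g⁻¹ y, Bad.map (by rw [hg]; exact hbade), Bad.map (by rw [hg]; exact hbady), ?_⟩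
  rw [MulEquiv.orderOf_eq (g⁻¹ : MulAut K), MulEquiv.orderOf_eq (g⁻¹ : MulAut K)]
  exact hne

end Cfsg.Agent.H527.OC
end

-- part: H529/NMove
section
/-!
# Coprime automorphisms act faithfully on an invariant real cyclic subgroup

`NMove K` : every automorphism `α` of `K` of order prime to `|K|` normalises a cyclic subgroup `⟨x⟩`, no non-trivial
power of `α` fixes `x`, and `x` is inverted by an element of `K`.

The criteria are those of `Cfsg.Agent.H531.RealMove` (same hypotheses).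

* `NMove.one` : the case of prime order;
* `NMove.two` : two commuting automorphisms of different prime orders.
-/

set_option autoImplicit false

namespace Cfsg.Agent.H529.NMv

open Cfsg.Agent.H254 Cfsg.Agent.ChevalleyStructure.SL2Hom Cfsg.Agent.H531

universe u v

/-- Every automorphism of `K` of order prime to `|K|` normalises a cyclic subgroup `⟨x⟩`, `x` real, such that no
non-trivial power of the automorphism fixes `x`. -/
def NMove (K : Type*) [Group K] : Prop :=
  ∀ α : MulAut K, (orderOf α).Coprime (Nat.card K) →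
    ∃ x t : K, α x ∈ Subgroup.zpowers x ∧ (∀ k : ℤ, (α ^ k) x = x → α ^ k = 1) ∧ t * x * t⁻¹ = x⁻¹

theorem NMove.of_equiv {K : Type u} [Group K] {L : Type v} [Group L] (e : K ≃* L) (h : NMove K) : NMove L := by
  intro α hα
  have hcard : Nat.card K = Nat.card L := Nat.card_congr e.toEquiv
  obtain ⟨x, t, h1, h2, h3⟩ := h ((MulAut.congr e).symm α) (by
    rw [hcard, MulEquiv.orderOf_eq (MulAut.congr e).symm α]
    exact hα)
  have h4 : (MulAut.congr e).symm α x = e.symm (α (e x)) := rfl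
  refine ⟨e x, e t, ?_, ?_, ?_⟩
  · rw [h4] at h1
    obtain ⟨k, hk⟩ := Subgroup.mem_zpowers_iff.1 h1
    refine Subgroup.mem_zpowers_iff.2 ⟨k, ?_⟩
    rw [← map_zpow, hk, MulEquiv.apply_symm_apply]
  · intro k hk
    have h5 : ((MulAut.congr e).symm α) ^ k = (MulAut.congr e).symm (α ^ k) := (map_zpow _ _ _).symm
    have h6 : ((MulAut.congr e).symm (α ^ k)) x = e.symm ((α ^ k) (e x)) := rfl
    have h7 := h2 k (by rw [h5, h6, hk, MulEquiv.symm_apply_apply])
    rw [h5] at h7
    have h8 := congrArg (MulAut.congr e) h7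
    rwa [MulEquiv.apply_symm_apply, map_one] at h8
  · rw [← map_mul, ← map_inv, ← map_mul, h3, map_inv]

/-- It is enough to treat the automorphisms up to conjugacy. -/
theorem NMove.of_conj {K : Type u} [Group K]
    (h : ∀ α : MulAut K, (orderOf α).Coprime (Nat.card K) → ∃ (g β : MulAut K), g * α * g⁻¹ = β ∧
      ((orderOf β).Coprime (Nat.card K) → ∃ x t : K, β x ∈ Subgroup.zpowers x ∧
        (∀ k : ℤ, (β ^ k) x = x → β ^ k = 1) ∧ t * x * t⁻¹ = x⁻¹)) : NMove K := by
  intro α hα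
  obtain ⟨g, β, hk, hm⟩ := h α hα
  have ho : orderOf β = orderOf α := by
    rw [← hk]
    exact MulEquiv.orderOf_eq (MulAut.conj g) α
  obtain ⟨x, t, h3, h4, h5⟩ := hm (by rw [ho]; exact hα)
  have h2 : ∀ k : ℤ, α ^ k = g⁻¹ * β ^ k * g := by
    intro k
    rw [← hk, conj_zpow]
    group
  have h6 : ∀ k : ℤ, (α ^ k) (g⁻¹ x) = g⁻¹ ((β ^ k) x) := by
    intro k
    rw [h2]
    show g⁻¹ ((β ^ k) (g (g⁻¹ x))) = _
    rw [MulAut.apply_inv_self]
  refine ⟨g⁻¹ x, g⁻¹ t, ?_, ?_, ?_⟩
  · have h7 := h6 1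
    rw [zpow_one, zpow_one] at h7
    rw [h7]
    obtain ⟨j, hj⟩ := Subgroup.mem_zpowers_iff.1 h3
    refine Subgroup.mem_zpowers_iff.2 ⟨j, ?_⟩
    rw [← map_zpow, hj]
  · intro k h
    rw [h6] at h
    rw [h2, h4 k (g⁻¹.injective h), mul_one, inv_mul_cancel]
  · rw [← map_mul, ← map_inv, ← map_mul, h5, map_inv]

/-- **Criterion for field automorphisms.** -/
theorem NMove.of_field {K : Type u} [Group K] {F : Type v} [Field F] [Finite F] (h2 : 2 ∣ Nat.card K)
    (φ : (F ≃+* F) →* MulAut K) (hco : FieldConj φ) (U : Subgroup Fˣ) (h : U →* K)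
    (hφ : ∀ (τ : F ≃+* F) (u u' : U), ((u' : Fˣ) : F) = τ ((u : Fˣ) : F) → φ τ (h u) = h u')
    (hker : ∀ u : U, h u = 1 → u ^ 2 = 1) (hreal : ∀ u : U, ∃ t : K, t * h u * t⁻¹ = (h u)⁻¹)
    (c : ℕ) (hc : ∀ p : ℕ, p.Prime → p ∣ c → p ∣ Nat.card K)
    (hU : ∀ τ : F ≃+* F, (∀ u ∈ U, τ ((u : Fˣ) : F) = u) → φ τ ^ c = 1) : NMove K := by
  -- a generator of `U`
  have hcyc : IsCyclic U := inferInstance
  obtain ⟨u, hu⟩ := IsCyclic.exists_generator (α := U)
  -- the action on the generator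
  have key0 : ∀ τ : F ≃+* F, ∃ m : ℤ, φ τ (h u) = h u ^ m ∧ Units.map (τ : F →* F) (u : Fˣ) = (u : Fˣ) ^ m := by
    intro τ
    obtain ⟨m, hm⟩ := MonoidHom.map_cyclic (Units.map (τ : F →* F))
    refine ⟨m, ?_, hm _⟩
    rw [← map_zpow]
    apply hφ
    have := congrArg Units.val (hm (u : Fˣ))
    rw [Subgroup.coe_zpow]
    rw [← this]
    rfl
  have key : ∀ τ : F ≃+* F, (orderOf (φ τ)).Coprime (Nat.card K) → φ τ (h u) = h u → φ τ = 1 := by
    intro τ hcop h4
    obtain ⟨m, h3, hm⟩ := key0 τ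
    have h5 : (u ^ (m - 1)) ^ 2 = 1 := by
      apply hker
      rw [map_zpow, zpow_sub_one, ← h3, h4, mul_inv_cancel]
    have h7 : τ (((u : Fˣ) : F)) = ((u : Fˣ) : F) * (((u ^ (m - 1) : U) : Fˣ) : F) := by
      have h8 := congrArg Units.val hm
      have h9 : ((u : Fˣ)) ^ m = (u : Fˣ) * ((u ^ (m - 1) : U) : Fˣ) := by
        rw [Subgroup.coe_zpow, zpow_sub_one, mul_comm, inv_mul_cancel_right]
      rw [h9] at h8
      exact h8
    have h10 : (((u ^ (m - 1) : U) : Fˣ) : F) ^ 2 = 1 := by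
      have := congrArg (fun z : U => (((z : Fˣ)) : F)) h5
      simpa only [_root_.SubgroupClass.coe_zpow, _root_.Units.val_zpow_eq_zpow_val, _root_.sq_eq_one_iff, _root_.SubmonoidClass.coe_pow, _root_.Units.val_pow_eq_pow_val, _root_.OneMemClass.coe_one, _root_.Units.val_one] using this
    have h11 : τ (τ (((u : Fˣ) : F))) = ((u : Fˣ) : F) := by
      have h12 : τ ((((u ^ (m - 1) : U) : Fˣ) : F)) = (((u ^ (m - 1) : U) : Fˣ) : F) := by
        rcases (sq_eq_one_iff.1 h10) with h | h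
        · rw [h, map_one]
        · rw [h, map_neg, map_one]
      rw [h7, map_mul, h12, h7, mul_assoc, ← sq, h10, mul_one]
    have h6 : (φ (τ ^ 2)) ^ c = 1 := by
      apply hU
      intro v hv
      obtain ⟨k, hk⟩ := Subgroup.mem_zpowers_iff.1 (hu ⟨v, hv⟩)
      have h13 : Units.map ((τ ^ 2 : F ≃+* F) : F →* F) (u : Fˣ) = (u : Fˣ) := Units.ext h11
      have h14 : Units.map ((τ ^ 2 : F ≃+* F) : F →* F) ((u : Fˣ) ^ k) = (u : Fˣ) ^ k := by
        rw [map_zpow, h13]
      have h15 : v = (u : Fˣ) ^ k := by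
        have := congrArg Subtype.val hk
        simpa using this.symm
      rw [h15]
      exact congrArg Units.val h14
    rw [map_pow, ← pow_mul] at h6
    have h16 : (orderOf (φ τ)).Coprime (2 * c) := by
      rw [Nat.coprime_iff_gcd_eq_one]
      by_contra hne
      obtain ⟨p, hp, hpd⟩ := Nat.exists_prime_and_dvd hne
      have hp1 : p ∣ orderOf (φ τ) := hpd.trans (Nat.gcd_dvd_left _ _)
      have hp2 : p ∣ Nat.card K := by
        rcases hp.dvd_mul.1 (hpd.trans (Nat.gcd_dvd_right _ _)) with h | h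
        · rw [(Nat.prime_dvd_prime_iff_eq hp Nat.prime_two).1 h]
          exact h2
        · exact hc p hp h
      have := Nat.dvd_gcd hp1 hp2
      rw [hcop] at this
      exact hp.one_lt.ne' (Nat.dvd_one.1 this)
    have h17 := Nat.Coprime.eq_one_of_dvd h16 (orderOf_dvd_of_pow_eq_one h6)
    exact orderOf_eq_one_iff.1 h17
  refine NMove.of_conj ?_
  intro α hα
  obtain ⟨g, τ, hg⟩ := hco α hα
  refine ⟨g, φ τ, hg, ?_⟩
  intro hcop
  obtain ⟨t, ht⟩ := hreal u
  refine ⟨h u, t, ?_, ?_, ht⟩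
  · obtain ⟨m, h3, -⟩ := key0 τ
    rw [h3]
    exact Subgroup.zpow_mem _ (Subgroup.mem_zpowers _) _
  · intro k hk
    rw [← map_zpow] at hk ⊢
    refine key (τ ^ k) ?_ hk
    rw [map_zpow]
    exact Nat.Coprime.coprime_dvd_left (orderOf_dvd_of_mem_zpowers (Subgroup.zpow_mem _ (Subgroup.mem_zpowers _) k)) hcop

theorem NMove.of_copTriv {K : Type u} [Group K] (h : CopTriv K) : NMove K := by
  intro α hα
  have h1 := Subgroup.zpowers_eq_bot.1 (h _ (by rw [Nat.card_zpowers]; exact hα))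
  refine ⟨1, 1, by rw [map_one]; exact one_mem _, ?_, by simp⟩
  intro k _
  rw [h1, one_zpow]

/-! ### Consequences -/

/-- A power of an automorphism normalising `⟨x⟩` normalises `⟨x⟩`. -/
theorem pow_mem {K : Type u} [Group K] {α : MulAut K} {x : K} (h : α x ∈ Subgroup.zpowers x) (n : ℕ) :
    (α ^ n) x ∈ Subgroup.zpowers x := by
  induction n with
  | zero => rw [pow_zero]; exact Subgroup.mem_zpowers x
  | succ n ih =>
    rw [pow_succ']
    show α ((α ^ n) x) ∈ _
    obtain ⟨k, hk⟩ := Subgroup.mem_zpowers_iff.1 ih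
    rw [← hk, map_zpow]
    exact Subgroup.zpow_mem _ h k

/-- Two commuting automorphisms of different prime orders. -/
theorem NMove.two {K : Type u} [Group K] (h : NMove K) {p q : ℕ} (hp : p.Prime) (hq : q.Prime) (hpq : p ≠ q)
    (hpK : ¬ p ∣ Nat.card K) (hqK : ¬ q ∣ Nat.card K) {a b : MulAut K} (hab : Commute a b)
    (ha : a ^ p = 1) (ha1 : a ≠ 1) (hb : b ^ q = 1) (hb1 : b ≠ 1) :
    ∃ t : K, a t ∈ Subgroup.zpowers t ∧ b t ∈ Subgroup.zpowers t ∧ a t ≠ t ∧ b t ≠ t := by
  have hpf : Fact p.Prime := ⟨hp⟩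
  have hqf : Fact q.Prime := ⟨hq⟩
  have hoa : orderOf a = p := orderOf_eq_prime ha ha1
  have hob : orderOf b = q := orderOf_eq_prime hb hb1
  have hcpq : Nat.Coprime p q := (Nat.coprime_primes hp hq).2 hpq
  have ho : orderOf (a * b) ∣ p * q := by
    apply orderOf_dvd_of_pow_eq_one
    rw [hab.mul_pow, pow_mul, ha, one_pow, mul_comm p q, pow_mul, hb, one_pow, one_mul]
  obtain ⟨x, -, h1, h2, -⟩ := h (a * b) (Nat.Coprime.coprime_dvd_left ho (Nat.Coprime.mul_left
    ((Nat.Prime.coprime_iff_not_dvd hp).2 hpK) ((Nat.Prime.coprime_iff_not_dvd hq).2 hqK)))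
  -- `a` and `b` are powers of `a * b`
  obtain ⟨i, hi1, hi2⟩ := Nat.chineseRemainder hcpq 1 0
  obtain ⟨j, hj1, hj2⟩ := Nat.chineseRemainder hcpq 0 1
  have ha' : (a * b) ^ i = a := by
    rw [hab.mul_pow]
    have e1 : a ^ i = a := by
      conv_rhs => rw [← pow_one a]
      exact pow_eq_pow_iff_modEq.2 (by rw [hoa]; exact hi1)
    have e2 : b ^ i = 1 := by
      conv_rhs => rw [← pow_zero b]
      exact pow_eq_pow_iff_modEq.2 (by rw [hob]; exact hi2)
    rw [e1, e2, mul_one]
  have hb' : (a * b) ^ j = b := by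
    rw [hab.mul_pow]
    have e1 : a ^ j = 1 := by
      conv_rhs => rw [← pow_zero a]
      exact pow_eq_pow_iff_modEq.2 (by rw [hoa]; exact hj1)
    have e2 : b ^ j = b := by
      conv_rhs => rw [← pow_one b]
      exact pow_eq_pow_iff_modEq.2 (by rw [hob]; exact hj2)
    rw [e1, e2, one_mul]
  refine ⟨x, ?_, ?_, ?_, ?_⟩
  · rw [← ha']
    exact pow_mem h1 i
  · rw [← hb']
    exact pow_mem h1 j
  · intro h3
    apply ha1
    have := h2 (i : ℤ) (by rw [zpow_natCast, ha']; exact h3)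
    rwa [zpow_natCast, ha'] at this
  · intro h3
    apply hb1
    have := h2 (j : ℤ) (by rw [zpow_natCast, hb']; exact h3)
    rwa [zpow_natCast, hb'] at this

end Cfsg.Agent.H529.NMv
end

-- part: H529/NMoveLin
section
/-!
# `NMove` for the linear, symplectic and unitary groups

Same proofs as in `Cfsg.Agent.H531` (helper531), `Cfsg.Agent.H71` (helper71), `Cfsg.Agent.H522` (helper522), with the
criteria of `Cfsg.Agent.H529.NMv`.
-/

set_option autoImplicit false

namespace Cfsg.Agent.H529.NMvLin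

open Cfsg.Agent.H531 Cfsg.Agent.H529.NMv

universe v

section PSL

open Cfsg.Agent.ClassicalGeometry.AutPSL.Auto Cfsg.Agent.ClassicalGeometry.AutPSL.Main
open Cfsg.Agent.ClassicalGeometry.AutPSL.Root
open Cfsg.Agent.KFacts.MulOdd.TypeA Cfsg.Agent.ChevalleyStructure.SL2Hom Cfsg.Agent.H531.RMPsl

variable {F : Type v} [Field F] {n : ℕ}

end PSL

section PSP

open Cfsg Cfsg.Agent.KFacts.MulOdd.TypeA Cfsg.Agent.ChevalleyStructure.SL2Hom
open Cfsg.Agent.ClassicalGeometry.SympBasic Cfsg.Agent.ClassicalGeometry.SympAutSemi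
  Cfsg.Agent.ClassicalGeometry.SympGamma Cfsg.Agent.H531.RMPsp
open scoped Matrix

variable {F : Type v} [Field F] {m : ℕ}

end PSP

section PSU

open Cfsg Cfsg.Agent.KFacts.MulOdd.TypeA Cfsg.Agent.ChevalleyStructure.SL2Hom
open Cfsg.Agent.LieClassical.HermBasic Cfsg.Agent.LieClassical.HermSiegel
  Cfsg.Agent.LieClassical.HermGen
  Cfsg.Agent.ClassicalGeometry.UnitAutBasic Cfsg.Agent.ClassicalGeometry.PSUAutCount
open Cfsg.Agent.H531.RMPsp Cfsg.Agent.H531.RMPsl Cfsg.Agent.H531.RMPsu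
open scoped Matrix

variable {F : Type v} [Field F] {n q : ℕ}

end PSU

end Cfsg.Agent.H529.NMvLin
end

-- part: H527/NRowOne
section
/-!
# `NRow` for `PSL₂(q)`, `Sz(q)`, `²G₂(q)` (helper527)
-/

set_option autoImplicit false
set_option linter.unusedSectionVars false

namespace Cfsg.Agent.H527.OC

open Subgroup Cfsg.Agent.H531 Cfsg.Agent.H254

universe u v

/-- Reindexing. -/
theorem exists_fin {ι : Type*} [Fintype ι] [DecidableEq ι] {F : Type*} [Field F] (M : Matrix.GeneralLinearGroup ι F)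
    (τ : F ≃+* F) (hM : ∀ i j, τ ((M : Matrix ι ι F) i j) = M i j) :
    ∃ M' : Matrix.GeneralLinearGroup (Fin (Fintype.card ι)) F, orderOf M' = orderOf M ∧
      ∀ i j, τ ((M' : Matrix (Fin (Fintype.card ι)) (Fin (Fintype.card ι)) F) i j) = M' i j := by
  let e := Fintype.equivFin ι
  let f : Matrix.GeneralLinearGroup ι F ≃* Matrix.GeneralLinearGroup (Fin (Fintype.card ι)) F :=
    Units.mapEquiv (Matrix.reindexAlgEquiv F F e).toMulEquiv
  refine ⟨f M, MulEquiv.orderOf_eq f M, fun i j => ?_⟩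
  exact hM (e.symm i) (e.symm j)

section PSL

open Cfsg.Agent.ClassicalGeometry.AutPSL.Auto Cfsg.Agent.ClassicalGeometry.AutPSL.Main
open Cfsg.Agent.ClassicalGeometry.AutPSL.Root
open Cfsg.Agent.KFacts.MulOdd.TypeA Cfsg.Agent.ChevalleyStructure.SL2Hom Cfsg.Agent.H531.RMPsl

variable {F : Type v} [Field F]

theorem nRow_psl2 [Fintype F] (h4 : 4 ≤ Fintype.card F)
    [Finite (Matrix.ProjectiveSpecialLinearGroup (Fin 2) F)]
    [IsSimpleGroup (Matrix.ProjectiveSpecialLinearGroup (Fin 2) F)]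
    (hna : ¬ IsMulCommutative (Matrix.ProjectiveSpecialLinearGroup (Fin 2) F))
    (h2 : 2 ∣ Nat.card (Matrix.ProjectiveSpecialLinearGroup (Fin 2) F)) {p : ℕ} (hp : p.Prime) :
    NRow p (Matrix.ProjectiveSpecialLinearGroup (Fin 2) F) := by
  obtain ⟨ρ, hρ, -⟩ := H254.exists_ringAut F
  have hco := H254.PSL.copIn le_rfl (fun _ => h4) hna h2 ρ hρ
  have hab : (0 : Fin 2) ≠ 1 := by decide
  obtain ⟨r, hchar⟩ := CharP.exists F
  obtain ⟨a, hr, ha⟩ := FiniteField.card F r
  have hq2 : 2 ≤ Fintype.card F := by omega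
  let s : Matrix.SpecialLinearGroup (Fin 2) F →* Matrix.ProjectiveSpecialLinearGroup (Fin 2) F :=
    (QuotientGroup.mk' _).comp (blk hab)
  have hs : ∀ t : F, s (up t) = 1 → t = 0 := by
    intro t ht
    have h1 : blk hab (up t) ∈ Subgroup.center (Matrix.SpecialLinearGroup (Fin 2) F) :=
      (QuotientGroup.eq_one_iff _).1 ht
    rw [Matrix.SpecialLinearGroup.mem_center_iff] at h1
    obtain ⟨r, -, hr⟩ := h1
    have h3 := congrFun (congrFun hr 0) 1
    have h4 : (blk hab (up t)).1 0 1 = t := by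
      show NN (0 : Fin 2) 1 (up t).1 0 1 = t
      simp [NN, up]
    rw [h4] at h3
    rw [← h3]
    simp
  refine NRow.of_field (r := r) (a := a) (m := 2) (n := 2) hp h2 ((lift).comp fld)
    (FieldConj.of_copIn (ρ := ρ) _ hco) (s.comp (diagSL F)) ?_ ?_ hr (by rw [Nat.card_eq_fintype_card, ha]) le_rfl
    ?_ ?_ ?_
  · intro τ u
    show lift (fld τ) (pr (blk hab (diagSL F u))) = pr (blk hab (diagSL F _))
    rw [lift_pr]
    congr 1
    show Matrix.SpecialLinearGroup.map (τ : F →+* F) (blk hab (diagSL F u)) = _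
    rw [map_blk, map_diagSL]
  · intro u hu
    exact sq_of_ker s (hs · ·) u hu
  · intro hpa hpK
    have hp3 : p ≠ 3 := fun h => hpK (h ▸ ThreePrime.OrderThree.three_dvd_card_psl F)
    have hp2 : p ≠ 2 := fun h => hpK (h ▸ h2)
    have hp5 : 5 ≤ p := by
      by_contra h
      have h5 := hp.two_le
      have h6 : p = 4 := by omega
      rw [h6] at hp
      exact absurd hp (by decide)
    have h7 : p ≤ (a : ℕ) := Nat.le_of_dvd a.pos hpa
    exact ⟨by omega, by omega⟩
  · intro τ g l hl hl2 hg hfix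
    obtain ⟨G₀, rfl⟩ := QuotientGroup.mk'_surjective _ g
    -- a lift of order `l`
    have h1 : G₀ ^ l ∈ Subgroup.center (Matrix.SpecialLinearGroup (Fin 2) F) := by
      rw [← QuotientGroup.eq_one_iff]
      have : (QuotientGroup.mk' (Subgroup.center (Matrix.SpecialLinearGroup (Fin 2) F)) G₀) ^ l = 1 := by
        rw [← hg, pow_orderOf_eq_one]
      rw [← map_pow] at this
      exact this
    have hcsq : ∀ z ∈ Subgroup.center (Matrix.SpecialLinearGroup (Fin 2) F), z ^ 2 = 1 := by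
      intro z hz
      rw [Matrix.SpecialLinearGroup.mem_center_iff] at hz
      obtain ⟨c, hc, hcz⟩ := hz
      apply Subtype.ext
      rw [Matrix.SpecialLinearGroup.coe_pow, ← hcz, ← map_pow]
      rw [Fintype.card_fin] at hc
      rw [hc, map_one]
      rfl
    have hodd : Odd l := hl.odd_of_ne_two hl2
    obtain ⟨k, hk⟩ := hodd
    set G₁ := G₀ ^ (l + 1) with hG₁
    have hG₁l : G₁ ^ l = 1 := by
      rw [hG₁, ← pow_mul, show (l + 1) * l = l * 2 * (k + 1) by rw [hk]; ring, pow_mul, pow_mul, hcsq _ h1, one_pow]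
    have hG₁g : QuotientGroup.mk' (Subgroup.center (Matrix.SpecialLinearGroup (Fin 2) F)) G₁ =
        QuotientGroup.mk' (Subgroup.center (Matrix.SpecialLinearGroup (Fin 2) F)) G₀ := by
      rw [hG₁, map_pow, pow_succ, ← hg, pow_orderOf_eq_one, one_mul]
    rw [← hG₁g] at hfix hg
    have hz : G₁⁻¹ * Matrix.SpecialLinearGroup.map (τ : F →+* F) G₁ ∈
        Subgroup.center (Matrix.SpecialLinearGroup (Fin 2) F) := by
      rw [← QuotientGroup.eq_one_iff]
      have h3 : QuotientGroup.mk' (Subgroup.center (Matrix.SpecialLinearGroup (Fin 2) F))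
          (Matrix.SpecialLinearGroup.map (τ : F →+* F) G₁) =
          QuotientGroup.mk' (Subgroup.center (Matrix.SpecialLinearGroup (Fin 2) F)) G₁ := hfix
      show QuotientGroup.mk' (Subgroup.center (Matrix.SpecialLinearGroup (Fin 2) F)) (G₁⁻¹ * _) = 1
      rw [map_mul, map_inv, h3, inv_mul_cancel]
    set z := G₁⁻¹ * Matrix.SpecialLinearGroup.map (τ : F →+* F) G₁ with hzdef
    have hGz : Matrix.SpecialLinearGroup.map (τ : F →+* F) G₁ = G₁ * z := by rw [hzdef]; group
    have hcomm : Commute G₁ z := (Subgroup.mem_center_iff.1 hz G₁)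
    have hz1 : z = 1 := by
      have h5 : (Matrix.SpecialLinearGroup.map (τ : F →+* F) G₁) ^ l = 1 := by
        rw [← map_pow, hG₁l, map_one]
      rw [hGz, hcomm.mul_pow, hG₁l, one_mul, hk, pow_succ, pow_mul, hcsq z hz, one_pow, one_mul] at h5
      exact h5
    rw [hz1, mul_one] at hGz
    refine ⟨Matrix.SpecialLinearGroup.toGL G₁, ?_, fun i j => ?_⟩
    · rw [orderOf_injective _ Matrix.SpecialLinearGroup.toGL_injective, ← hg]
      exact orderOf_map_dvd _ _
    · have := congrArg (fun A : Matrix.SpecialLinearGroup (Fin 2) F => A.1 i j) hGz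
      exact this
  · intro l hl hdiv
    have h5 : l ∣ Fintype.card F ^ 2 - 1 := by
      rw [ha, ← pow_mul, hdiv]
      exact ⟨1, by ring⟩
    rcases Nat.even_or_odd (Fintype.card F) with he | ho
    · rw [SmallSimple.PSLTwoPart.card_psl_two_even he]
      exact Dvd.dvd.mul_left h5 _
    · have h6 := SmallSimple.PSLTwoPart.card_psl_two_odd ho
      have h7 : l ∣ 2 * Nat.card (Matrix.ProjectiveSpecialLinearGroup (Fin 2) F) := by
        rw [h6]
        exact Dvd.dvd.mul_left h5 _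
      rcases hl.dvd_mul.1 h7 with h8 | h8
      · exact (h8.trans h2)
      · exact h8

end PSL

section Sz

open Cfsg.Lie Cfsg.Agent.H967.CopSz Cfsg.Agent.H71.RealMoveTw
open Cfsg.Agent.LieRecognition.SzMatrix Cfsg.Agent.H70.SzOut

variable {K : Type*} [Field K] [Fintype K] {m : ℕ}

theorem nRow_sz (hm : 1 ≤ m) (hF : Fintype.card K = 2 ^ (2 * m + 1)) {p : ℕ} (hp : p.Prime) :
    NRow p ↥(Cfsg.Lie.Sz K (2 ^ (m + 1))) := by
  let H := good hF
  let h : Kˣ →* ↥(Cfsg.Lie.Sz K (2 ^ (m + 1))) :=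
    { toFun := H.d
      map_one' := H.d_one
      map_mul' := fun a b => (H.d_mul a b).symm }
  have hw1 : H.w ≠ 1 := fun hw => H.w_not_mem_borel (by rw [hw]; exact one_mem _)
  have h2 := two_dvd H.w_mul_w hw1
  have hcard := (Cfsg.Agent.S1163.result hm hF).1
  refine NRow.of_field (r := 2) (a := 2 * m + 1) (m := 4) (n := 4) hp h2 _
    (FieldConj.of_row (row_sz hm hF)) h ?_ ?_ Nat.prime_two (by rw [Nat.card_eq_fintype_card, hF]) (by norm_num)
    ?_ ?_ ?_
  · intro τ u
    exact Cfsg.Agent.H70.SzOut.fieldAut_d H τ u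
  · intro u hu
    have : u = 1 := H.d_inj (hu.trans H.d_one.symm)
    rw [this, one_pow]
  · intro _ hpK
    have hp2 : p ≠ 2 := fun h => hpK (h ▸ h2)
    have := hp.two_le
    omega
  · intro τ g l _ _ hg hfix
    refine ⟨(g : Matrix.GeneralLinearGroup (Fin 4) K), ?_, fun i j => ?_⟩
    · rw [Subgroup.orderOf_coe, hg]
    · have := congrArg (fun z : ↥(Cfsg.Lie.Sz K (2 ^ (m + 1))) =>
        ((z : Matrix.GeneralLinearGroup (Fin 4) K) : Matrix (Fin 4) (Fin 4) K) i j) hfix
      exact this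
  · intro l hl hdiv
    rw [hcard]
    have h5 : l ∣ 2 ^ (4 * (2 * m + 1)) - 1 := (hdiv _).2 dvd_rfl
    have h6 : ¬ l ∣ 2 ^ (2 * (2 * m + 1)) - 1 := by
      rw [hdiv]
      intro h
      have := Nat.le_of_dvd (by omega) h
      omega
    have h7 : 2 ^ (4 * (2 * m + 1)) - 1 = (2 ^ (2 * (2 * m + 1)) - 1) * (2 ^ (2 * (2 * m + 1)) + 1) := by
      have h8 : 2 ^ (4 * (2 * m + 1)) = 2 ^ (2 * (2 * m + 1)) * 2 ^ (2 * (2 * m + 1)) := by
        rw [← pow_add]; congr 1; ring
      rw [h8]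
      have h9 : 1 ≤ 2 ^ (2 * (2 * m + 1)) := Nat.one_le_two_pow
      obtain ⟨t, ht⟩ := Nat.exists_eq_add_of_le h9
      rw [ht]
      have : (1 + t) * (1 + t) - 1 = t * (2 + t) := by
        have : (1 + t) * (1 + t) = t * (2 + t) + 1 := by ring
        omega
      rw [this]
      congr 1 <;> omega
    rw [h7] at h5
    rcases hl.dvd_mul.1 h5 with h8 | h8
    · exact absurd h8 h6
    · have h9 : 2 ^ (2 * (2 * m + 1)) = (2 ^ (2 * m + 1)) ^ 2 := by rw [← pow_mul]; congr 1; ring
      rw [h9] at h8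
      exact Dvd.dvd.mul_left h8 _

end Sz

section Ree

open Cfsg.Lie Cfsg.Agent.H967.CopSz Cfsg.Agent.H71.RealMoveTw
open Cfsg.Agent.ChevalleyStructure.Ree.Gens Cfsg.Agent.ChevalleyStructure.Ree Cfsg.Agent.LieRecognition
  Cfsg.Agent.LieRecognition.ReeAbs Cfsg.Agent.ChevalleyStructure.Ree.Normal

variable {K : Type*} [Field K] [Fintype K] {m : ℕ}

theorem nRow_ree (hm : 1 ≤ m) (hK : Fintype.card K = 3 ^ (2 * m + 1)) {p : ℕ} (hp : p.Prime) :
    NRow p ↥(Cfsg.Lie.twistedG2 K (3 ^ m)) := by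
  obtain ⟨θ, c⟩ := exists_ctx hK
  have D := Data.data c
  have h2 := two_dvd D.n_n D.n_ne_one
  have hcard := Cfsg.Agent.ChevalleyStructure.ReeCount.card_twistedG2 (m := m) hK
  refine NRow.of_field (r := 3) (a := 2 * m + 1) (m := 6) (n := Fintype.card chevG2.Idx) hp h2 _
    (FieldConj.of_row (row_ree hm hK)) (MonoidHom.mk' _ D.h_mul) ?_ ?_ Nat.prime_three
    (by rw [Nat.card_eq_fintype_card, hK]) (by norm_num) ?_ ?_ ?_
  · intro τ u
    exact (Cfsg.Agent.H71.FldAut.reeFld c).onH τ u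
  · intro u hu
    have : u = 1 := ReeSplit.h_injective D (hu.trans (map_one _).symm)
    rw [this, one_pow]
  · intro _ hpK
    have hp2 : p ≠ 2 := fun h => hpK (h ▸ h2)
    have := hp.two_le
    have hc : Fintype.card chevG2.Idx = 14 := by decide +kernel
    rw [hc]
    omega
  · intro τ g l _ _ hg hfix
    obtain ⟨M', h1, h3⟩ := exists_fin (g : Matrix.GeneralLinearGroup chevG2.Idx K) τ (fun i j => by
      have := congrArg (fun z : ↥(Cfsg.Lie.twistedG2 K (3 ^ m)) =>
        ((z : Matrix.GeneralLinearGroup chevG2.Idx K) : Matrix chevG2.Idx chevG2.Idx K) i j) hfix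
      exact this)
    refine ⟨M', ?_, h3⟩
    rw [h1, Subgroup.orderOf_coe, hg]
  · intro l hl hdiv
    rw [hcard]
    have h5 : l ∣ 3 ^ (6 * (2 * m + 1)) - 1 := (hdiv _).2 dvd_rfl
    have h6 : ¬ l ∣ 3 ^ (3 * (2 * m + 1)) - 1 := by
      rw [hdiv]
      intro h
      have := Nat.le_of_dvd (by omega) h
      omega
    have h7 : 3 ^ (6 * (2 * m + 1)) - 1 = (3 ^ (3 * (2 * m + 1)) - 1) * (3 ^ (3 * (2 * m + 1)) + 1) := by
      have h8 : 3 ^ (6 * (2 * m + 1)) = 3 ^ (3 * (2 * m + 1)) * 3 ^ (3 * (2 * m + 1)) := by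
        rw [← pow_add]; congr 1; ring
      rw [h8]
      have h9 : 1 ≤ 3 ^ (3 * (2 * m + 1)) := Nat.one_le_pow _ _ (by norm_num)
      obtain ⟨t, ht⟩ := Nat.exists_eq_add_of_le h9
      rw [ht]
      have : (1 + t) * (1 + t) - 1 = t * (2 + t) := by
        have : (1 + t) * (1 + t) = t * (2 + t) + 1 := by ring
        omega
      rw [this]
      congr 1 <;> omega
    rw [h7] at h5
    rcases hl.dvd_mul.1 h5 with h8 | h8
    · exact absurd h8 h6
    · have h9 : 3 ^ (3 * (2 * m + 1)) = (3 ^ (2 * m + 1)) ^ 3 := by rw [← pow_mul]; congr 1; ring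
      rw [h9] at h8
      exact Dvd.dvd.mul_left h8 _

end Ree

end Cfsg.Agent.H527.OC
end

-- part: H527/NRowAll
section
/-!
# `NRow` for the known simple groups (helper527)

`nRow` : a known non-abelian finite simple group `K` satisfies `NRow p K` for every prime `p`: an automorphism of order
`p`, `p ∤ |K|`, has two elements of different orders no conjugates of which it fixes.
-/

set_option autoImplicit false

namespace Cfsg.Agent.H527.OC

open Cfsg

universe u v

/-- A finite non-abelian simple group has even order. -/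
theorem NRow.two_dvd (K : Type u) [Group K] [Finite K] [IsSimpleGroup K] (hna : ¬ IsMulCommutative K) :
    2 ∣ Nat.card K := by
  by_contra h
  have hodd : Odd (Nat.card K) := by
    rw [← Nat.not_even_iff_odd, even_iff_two_dvd]
    exact h
  have hs := S0205.result hodd
  apply hna
  refine ⟨⟨fun a b => ?_⟩⟩
  exact (IsSimpleGroup.comm_iff_isSolvable.2 hs) a b

/-- Transport from a model. -/
theorem NRow.of_model {M : Type v} [Group M] {p : ℕ}
    (h : Finite M → IsSimpleGroup M → ¬ IsMulCommutative M → 2 ∣ Nat.card M → NRow p M)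
    (K : Type u) [Group K] [Finite K] [IsSimpleGroup K] (hK : ¬ IsMulCommutative K)
    (e : Nonempty (K ≃* M)) : NRow p K := by
  obtain ⟨e⟩ := e
  have h1 : Finite M := Finite.of_equiv K e.toEquiv
  have hsm : IsSimpleGroup M := e.symm.isSimpleGroup
  have hna : ¬ IsMulCommutative M := by
    intro hc
    apply hK
    refine ⟨⟨fun a b => e.injective ?_⟩⟩
    rw [map_mul, map_mul]
    exact hc.is_comm.comm _ _
  exact NRow.congr e.symm (h h1 hsm hna (by rw [← Nat.card_congr e.toEquiv]; exact NRow.two_dvd K hK))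

theorem nRow_alternating {p : ℕ} (hp : p.Prime) (K : Type u) [Group K] [Finite K] [IsSimpleGroup K]
    (hK : ¬ IsMulCommutative K) (h : IsAlternating K) : NRow p K := by
  obtain ⟨n, hn, ⟨e⟩⟩ := h
  by_cases h6 : n = 6
  · subst h6
    haveI : Fact (Nat.Prime 3) := ⟨Nat.prime_three⟩
    letI : Fintype (GaloisField 3 2) := Fintype.ofFinite _
    have hF : Fintype.card (GaloisField 3 2) = 9 := by
      rw [← Nat.card_eq_fintype_card, GaloisField.card 3 2 (by norm_num)]; norm_num
    obtain ⟨e'⟩ := S0254.result (F := GaloisField 3 2) hF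
    exact NRow.of_model (M := Matrix.ProjectiveSpecialLinearGroup (Fin 2) (GaloisField 3 2))
      (fun _ _ h3 h4 => nRow_psl2 (by omega) h3 h4 hp) K hK ⟨e.trans e'.symm⟩
  · exact NRow.of_copTriv hp ((H254.Alt.copTriv hn h6).of_equiv e.symm)

/-- The characteristic of a finite field, as a fact. -/
theorem exists_char (F : Type*) [Field F] [Finite F] : ∃ r : ℕ, Fact r.Prime ∧ CharP F r := by
  obtain ⟨r, hchar⟩ := CharP.exists F
  exact ⟨r, ⟨CharP.char_is_prime F r⟩, hchar⟩

/-- **`NRow` for the known non-abelian simple groups.** -/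
theorem nRow {p : ℕ} (hp : p.Prime) (K : Type u) [Group K] [Finite K] [IsSimpleGroup K]
    (hna : ¬ IsMulCommutative K) (hk : IsKnownSimple' K) : NRow p K := by
  rcases hk with hk | hk | hk | hk | hk | hk | hk | hk | hk | hk
  · exfalso
    apply hna
    have h1 : Fact (Nat.card K).Prime := ⟨hk⟩
    have h2 : IsCyclic K := isCyclic_of_prime_card (p := Nat.card K) rfl
    exact IsCyclic.isMulCommutative
  · exact nRow_alternating hp K hna hk
  · obtain ⟨F, _, _, n, hn, h4, e⟩ := hk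
    obtain ⟨r, hr, hc⟩ := exists_char F
    rcases eq_or_lt_of_le hn with h2 | h2
    · subst h2
      exact NRow.of_model (fun _ _ h1 h2 => nRow_psl2 (h4 rfl) h1 h2 hp) K hna e
    · exact NRow.of_model (fun _ _ _ _ => NRow.of_tRow hr.out hp (H164.TRowPSL.tRow_psl h2)) K hna e
  · obtain ⟨F, _, _, m, hm, h3, e⟩ := hk
    obtain ⟨r, hr, hc⟩ := exists_char F
    exact NRow.of_model (fun _ _ _ _ => NRow.of_tRow hr.out hp (H164.TRowPSp.tRow_psp hm)) K hna e
  · obtain ⟨F, _, _, n, q, hF, hn, h32, e⟩ := hk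
    obtain ⟨r, hr, hc⟩ := exists_char F
    exact NRow.of_model (fun _ _ _ _ => NRow.of_tRow hr.out hp (H471.TRowPSU.tRow_psu hF hn)) K hna e
  · obtain ⟨F, _, _, m, hm, hodd, e⟩ := hk
    obtain ⟨r, hr, hc⟩ := exists_char F
    exact NRow.of_model (fun _ _ _ _ => NRow.of_tRow hr.out hp (H989.TRowOrth.tRow_po_odd hm hodd)) K hna e
  · obtain ⟨F, _, _, m, hm, e⟩ := hk
    obtain ⟨r, hr, hc⟩ := exists_char F
    exact NRow.of_model (fun _ _ _ _ => NRow.of_tRow hr.out hp (H989.TRowOrth.tRow_po_plus hm)) K hna e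
  · obtain ⟨F, _, _, m, a, b, hm, hab, e⟩ := hk
    obtain ⟨r, hr, hc⟩ := exists_char F
    exact NRow.of_model (fun _ _ _ _ => NRow.of_tRow hr.out hp (H989.TRowOrth.tRow_po_minus hm a b hab)) K hna e
  · rcases hk with hk | hk | hk | hk | hk | hk | hk | hk | hk | hk | hk
    · obtain ⟨F, _, _, h3, e⟩ := hk
      obtain ⟨r, hr, hc⟩ := exists_char F
      exact NRow.of_tRow hr.out hp (H164.TRowExc.tRow_exc ⟨F, inferInstance, inferInstance, hc, Or.inl ⟨h3, e⟩⟩)
    · obtain ⟨F, _, _, e⟩ := hk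
      obtain ⟨r, hr, hc⟩ := exists_char F
      exact NRow.of_tRow hr.out hp (H164.TRowExc.tRow_exc ⟨F, inferInstance, inferInstance, hc, Or.inr (Or.inl e)⟩)
    · obtain ⟨F, _, _, e⟩ := hk
      obtain ⟨r, hr, hc⟩ := exists_char F
      exact NRow.of_tRow hr.out hp (H164.TRowExc.tRow_exc ⟨F, inferInstance, inferInstance, hc, Or.inr (Or.inr (Or.inl e))⟩)
    · obtain ⟨F, _, _, e⟩ := hk
      obtain ⟨r, hr, hc⟩ := exists_char F
      exact NRow.of_tRow hr.out hp (H164.TRowExc.tRow_exc ⟨F, inferInstance, inferInstance, hc, Or.inr (Or.inr (Or.inr (Or.inl e)))⟩)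
    · obtain ⟨F, _, _, e⟩ := hk
      obtain ⟨r, hr, hc⟩ := exists_char F
      exact NRow.of_tRow hr.out hp (H164.TRowExc.tRow_exc ⟨F, inferInstance, inferInstance, hc, Or.inr (Or.inr (Or.inr (Or.inr e)))⟩)
    · obtain ⟨F, _, _, q, hq, hF, e⟩ := hk
      obtain ⟨r, hr, hc⟩ := exists_char F
      exact NRow.of_tRow hr.out hp (H680.TRowTw.tRow_tw ⟨F, inferInstance, inferInstance, hc, q, hq, Or.inl ⟨hF, e⟩⟩)
    · obtain ⟨F, _, _, q, hq, hF, e⟩ := hk
      obtain ⟨r, hr, hc⟩ := exists_char F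
      exact NRow.of_tRow hr.out hp (H680.TRowTw.tRow_tw ⟨F, inferInstance, inferInstance, hc, q, hq, Or.inr ⟨hF, e⟩⟩)
    · obtain ⟨F, _, _, m, hm, hF, e⟩ := hk
      exact NRow.of_model (fun _ _ _ _ => nRow_sz hm hF hp) K hna e
    · obtain ⟨F, _, _, m, hm, hF, e⟩ := hk
      exact NRow.of_model (fun _ _ _ _ => nRow_ree hm hF hp) K hna e
    · exact NRow.of_tRow Nat.prime_two hp (H60.TRowTwF4.tRow_tf4 hk)
    · exact NRow.of_copTriv hp (H254.CopSpor.tits_triv hk)
  · exact NRow.of_copTriv hp (H254.CopSpor.sporadic_triv hk)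

end Cfsg.Agent.H527.OC
end
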